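import Cfsg.Agent.GraphSimple.Eleven

set_option autoImplicit false

/-!
A group of order 7920 with disconnected prime graph is simple.
-/

namespace CfsgLib.GraphSimple

open Subgroup

variable {G : Type*} [Group G] [Finite G]

/-- Burnside: a self-centralising Sylow subgroup with `N ∩ K = Q` gives a bad normal subgroup. -/
theorem false_of_selfnormalizing {p a m b : ℕ} [Fact p.Prime] (hG : Nat.card G = 7920) (hm : p ^ a * m = 7920)
    (hpm : ¬ p ∣ m) (ha : 1 ≤ a) (hp2 : p ≠ 2) (hp495 : p ^ a ∣ 495)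
    (hbad : ∀ M : Subgroup G, M.Normal → M ≠ ⊥ → M ≠ ⊤ → 495 ∣ Nat.card M)
    {K Q : Subgroup G} [K.Normal] (hK : Nat.card K = 495 * 2 ^ b) (hb : 1 ≤ b) (hQK : Q ≤ K)
    (hQ : Nat.card Q = p ^ a) (hN : normalizer (Q : Set G) ⊓ K ≤ centralizer (Q : Set G)) : False := by
  have hpK : ¬ p ∣ Nat.card K / Nat.card Q := by
    intro h
    have h' : Nat.card Q * p ∣ Nat.card K := (Nat.dvd_div_iff_mul_dvd (Subgroup.card_dvd_of_le hQK)).1 h
    rw [hQ] at h'
    have h'' : p ^ a * p ∣ p ^ a * m := hm.symm ▸ h'.trans (hG ▸ Subgroup.card_subgroup_dvd_card K)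
    exact hpm ((Nat.mul_dvd_mul_iff_left (pow_pos (Fact.out : p.Prime).pos _)).1 h'')
  obtain ⟨M, hMn, -, hM⟩ := exists_normal_complement (p := p) (a := a) hQK hQ hpK hN
  rw [hK, hQ] at hM
  have hpa : 3 ≤ p ^ a := le_trans (Nat.lt_of_le_of_ne (Fact.out : p.Prime).two_le (Ne.symm hp2))
    (Nat.le_self_pow (by omega) p)
  have hKle : Nat.card K ≤ 7920 := hG ▸ Subgroup.card_le_card_group K
  rw [hK] at hKle
  have hMle := Nat.mul_le_mul_left (Nat.card M) hpa
  have hMtop : M ≠ ⊤ := fun h => by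
    rw [h, Subgroup.card_top, hG] at hMle hM
    omega
  have hMbot : M ≠ ⊥ := fun h => by
    rw [h, Subgroup.card_bot, one_mul] at hM
    have := Nat.le_of_dvd (by norm_num) hp495
    have := Nat.le_self_pow (show b ≠ 0 by omega) 2
    omega
  obtain ⟨k, hk⟩ := hbad M hMn hMbot hMtop
  rw [hk, mul_assoc] at hM
  have h9 : k * p ^ a = 2 ^ b := Nat.eq_of_mul_eq_mul_left (by norm_num) hM
  have hp : p ∣ 2 ^ b := h9 ▸ Dvd.dvd.mul_left (dvd_pow_self p (by omega)) k
  exact hp2 ((Nat.prime_dvd_prime_iff_eq Fact.out Nat.prime_two).1 ((Fact.out : p.Prime).dvd_of_dvd_pow hp))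

/-- An isolated prime pins down the order of proper normal subgroups. -/
theorem normal_card_eq {p a m : ℕ} [Fact p.Prime] (hG : Nat.card G = 7920) (hm : p ^ a * m = 7920)
    (hpm : ¬ p ∣ m) (ha : 1 ≤ a) (hp2 : p ≠ 2) (hp495 : p ^ a ∣ 495)
    (hdata : ∀ M : Subgroup G, M.Normal → M ≠ ⊥ → M ≠ ⊤ → ∃ b, 1 ≤ b ∧ b ≤ 3 ∧ Nat.card M = 495 * 2 ^ b)
    {Q : Subgroup G} (hQ : Nat.card Q = p ^ a) (hQC : centralizer (Q : Set G) = Q)
    (hN : Nat.card (normalizer (Q : Set G)) = 4 * p ^ a)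
    {K : Subgroup G} [K.Normal] (hKbot : K ≠ ⊥) (hKtop : K ≠ ⊤) :
    Nat.card K = 3960 ∧ Q ≤ K ∧ Nat.card ↥(K ⊓ normalizer (Q : Set G)) = 2 * p ^ a := by
  obtain ⟨b, hb1, hb3, hKc⟩ := hdata K inferInstance hKbot hKtop
  have hQK : Q ≤ K := by
    intro w hw
    have hwo : orderOf w ∣ p ^ a := hQ ▸ Subgroup.orderOf_dvd_natCard _ hw
    have hidx : K.index * (495 * 2 ^ b) = 7920 := by rw [← hKc, K.index_mul_card, hG]
    rw [← QuotientGroup.eq_one_iff]
    refine orderOf_eq_one_iff.1 (Nat.eq_one_of_dvd_coprimes ?_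
      ((orderOf_map_dvd (QuotientGroup.mk' K) w).trans hwo) (orderOf_dvd_natCard _))
    rw [← Subgroup.index_eq_card]
    refine Nat.Coprime.pow_left a (((Fact.out : p.Prime).coprime_iff_not_dvd).2 fun h => hp2 ?_)
    have h16 : K.index ∣ 2 ^ 4 := by
      have h495 : 495 * (2 ^ b * K.index) = 495 * 16 := by linarith
      exact ⟨2 ^ b, by rw [mul_comm K.index, Nat.eq_of_mul_eq_mul_left (by norm_num) h495]; norm_num⟩
    exact (Nat.prime_dvd_prime_iff_eq Fact.out Nat.prime_two).1 ((Fact.out : p.Prime).dvd_of_dvd_pow (h.trans h16))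
  have hQN : Q ≤ normalizer (Q : Set G) := Subgroup.le_normalizer
  have hQind : ¬ p ∣ Q.index := by
    have h1 := Q.index_mul_card
    rw [hG, hQ, ← hm, mul_comm] at h1
    rw [Nat.eq_of_mul_eq_mul_left (pow_pos (Fact.out : p.Prime).pos _) h1]
    exact hpm
  have hfr : normalizer (Q : Set G) ⊔ K = ⊤ := by
    have hQs : (((IsPGroup.of_card hQ).toSylow hQind : Sylow p G) : Subgroup G) = Q := IsPGroup.toSylow_coe _ _
    have := Sylow.normalizer_sup_eq_top' (N := K) ((IsPGroup.of_card hQ).toSylow hQind) (hQs.symm ▸ hQK)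
    change normalizer ((((IsPGroup.of_card hQ).toSylow hQind : Sylow p G) : Subgroup G) : Set G) ⊔ K = ⊤ at this
    rwa [hQs] at this
  have h1 := card_mul_card_inf hfr
  rw [hG, hKc, hN] at h1
  have hodd : p ^ a % 2 = 1 := Nat.odd_iff.1 ((Fact.out : p.Prime).odd_of_ne_two hp2).pow
  interval_cases b
  · exfalso; omega
  · exfalso
    have hc : Nat.card ↥(K ⊓ normalizer (Q : Set G)) = p ^ a := by omega
    refine false_of_selfnormalizing hG hm hpm ha hp2 hp495 (fun M hM h1 h2 => ?_) hKc (by norm_num) hQK hQ ?_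
    · obtain ⟨b', -, -, hb'⟩ := hdata M hM h1 h2
      exact hb' ▸ dvd_mul_right 495 _
    · rw [inf_comm, hQC, ← Subgroup.eq_of_le_of_card_ge (le_inf hQK hQN) (by rw [hc, hQ])]
  · exact ⟨by rw [hKc]; norm_num, hQK, by omega⟩

theorem card_normalizer_five [Fact (Nat.Prime 5)] {Q : Subgroup G} (hQ : Nat.card Q = 5 ^ 1)
    (hQC : centralizer (Q : Set G) = Q) {n' : ℕ} (hn : n' * Nat.card (normalizer (Q : Set G)) = 7920)
    (hn1 : n' % 5 = 1) :
    Nat.card (normalizer (Q : Set G)) = 5 ^ 1 ∨ Nat.card (normalizer (Q : Set G)) = 4 * 5 ^ 1 := by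
  have h1 := Small.relIndex_centralizer_dvd_pred (p := 5) (P := Q) (by rw [hQ]; norm_num)
  rw [hQC] at h1
  have h2 := relIndex_mul_card (Subgroup.le_normalizer (H := Q))
  rw [hQ] at h2
  have h3 : Q.relIndex (normalizer (Q : Set G)) ≤ 4 := Nat.le_of_dvd (by norm_num) h1
  rw [← h2] at hn ⊢
  interval_cases hh : Q.relIndex (normalizer (Q : Set G)) <;> omega

theorem card_normalizer_three [Fact (Nat.Prime 3)] {Q : Subgroup G} (hQ : Nat.card Q = 3 ^ 2)
    (hQx : ∀ x ∈ Q, orderOf x = 3 → centralizer {x} = Q) {n' : ℕ}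
    (hn : n' * Nat.card (normalizer (Q : Set G)) = 7920) (hn1 : n' % 3 = 1) :
    Nat.card (normalizer (Q : Set G)) = 3 ^ 2 ∨ Nat.card (normalizer (Q : Set G)) = 4 * 3 ^ 2 := by
  set NQ := normalizer (Q : Set G)
  have hQN : Q ≤ NQ := Subgroup.le_normalizer
  have h2 := relIndex_mul_card hQN
  obtain ⟨⟨x, hxQ⟩, hx⟩ := exists_prime_orderOf_dvd_card' (G := Q) 3 (hQ ▸ by norm_num)
  rw [← Subgroup.orderOf_coe] at hx
  simp only at hx
  have hne : (⟨x, hQN hxQ⟩ : NQ) ≠ 1 := fun h => by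
    have h' : x = 1 := congrArg Subtype.val h
    rw [h', orderOf_one] at hx
    norm_num at hx
  haveI : (Q.subgroupOf NQ).Normal := Subgroup.normal_in_normalizer
  have h5 := index_centralizer_lt (G := NQ) (K := Q.subgroupOf NQ) (z := ⟨x, hQN hxQ⟩) hxQ hne
  rw [Nat.card_congr (Subgroup.subgroupOfEquivOfLe hQN).toEquiv, hQ] at h5
  have h6 : centralizer ({⟨x, hQN hxQ⟩} : Set NQ) ≤ Q.subgroupOf NQ := by
    intro w hw
    have h' : (w : G) ∈ centralizer ({x} : Set G) := Subgroup.mem_centralizer_singleton_iff.2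
      (congrArg Subtype.val (Subgroup.mem_centralizer_singleton_iff.1 hw))
    rw [hQx x hxQ hx] at h'
    exact h'
  have h7 := Nat.le_of_dvd (Nat.pos_of_ne_zero Subgroup.index_ne_zero_of_finite) (Subgroup.index_dvd_of_le h6)
  have h8 : Q.relIndex NQ ≤ 8 := by
    show (Q.subgroupOf NQ).index ≤ 8
    norm_num at h5
    omega
  rw [hQ] at h2
  rw [← h2] at hn ⊢
  interval_cases hh : Q.relIndex NQ <;> omega

/-- No isolated prime `3` or `5`. -/
theorem false_of_isolated {p a m : ℕ} [Fact p.Prime] [Fact (Nat.Prime 11)] (hG : Nat.card G = 7920)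
    (hm : p ^ a * m = 7920) (hpm : ¬ p ∣ m) (ha : 1 ≤ a) (ha2 : a ≤ 2) (hp2 : p ≠ 2) (hp495 : p ^ a ∣ 495)
    (Ps : Sylow 11 G)
    (hsmall : Nat.card (normalizer ((Ps : Subgroup G) : Set G)) = 176 ∧
        Nat.card (centralizer ((Ps : Subgroup G) : Set G)) = 88 ∨
      Nat.card (normalizer ((Ps : Subgroup G) : Set G)) = 55 ∧ Nat.card (centralizer ((Ps : Subgroup G) : Set G)) = 11)
    (h11 : ∀ M : Subgroup G, M.Normal → M ≠ ⊥ → 11 ∣ Nat.card M)
    {K : Subgroup G} [K.Normal] (hKbot : K ≠ ⊥) (hKtop : K ≠ ⊤)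
    (hi : ∀ s : ℕ, s.Prime → s ≠ p → ¬ ∃ g : G, orderOf g = p * s)
    (hNQ : ∀ (Q : Subgroup G) (n' : ℕ), Nat.card Q = p ^ a → centralizer (Q : Set G) = Q →
      (∀ x ∈ Q, orderOf x = p → centralizer {x} = Q) → n' * Nat.card (normalizer (Q : Set G)) = 7920 →
      n' % p = 1 → Nat.card (normalizer (Q : Set G)) = p ^ a ∨ Nat.card (normalizer (Q : Set G)) = 4 * p ^ a) :
    False := by
  have hdata : ∀ M : Subgroup G, M.Normal → M ≠ ⊥ → M ≠ ⊤ → ∃ b, 1 ≤ b ∧ b ≤ 3 ∧ Nat.card M = 495 * 2 ^ b := by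
    intro M hM h1 h2
    obtain ⟨-, -, b, hb1, hb3, hb, -, -⟩ := normal_data hG Ps hsmall hM (h11 M hM h1) h2
    exact ⟨b, hb1, hb3, hb⟩
  obtain ⟨Q, hQ, hQC, hQx⟩ := exists_isolated hG hm hpm ha hi ha2
  have hQind : ¬ p ∣ Q.index := by
    have h1 := Q.index_mul_card
    rw [hG, hQ, ← hm, mul_comm] at h1
    rw [Nat.eq_of_mul_eq_mul_left (pow_pos (Fact.out : p.Prime).pos _) h1]
    exact hpm
  obtain ⟨hnQ, hnQ1⟩ := card_of_index_sylow hG ((IsPGroup.of_card hQ).toSylow hQind)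
  rw [IsPGroup.toSylow_coe] at hnQ
  rcases hNQ Q _ hQ hQC hQx hnQ hnQ1 with hN | hN
  · haveI : (⊤ : Subgroup G).Normal := inferInstance
    refine false_of_selfnormalizing hG hm hpm ha hp2 hp495 (fun M hM h1 h2 => ?_) (K := ⊤) (b := 4)
      (by rw [Subgroup.card_top, hG]; norm_num) (by norm_num) le_top hQ ?_
    · obtain ⟨b', -, -, hb'⟩ := hdata M hM h1 h2
      exact hb' ▸ dvd_mul_right 495 _
    · rw [inf_top_eq, hQC, ← Subgroup.eq_of_le_of_card_ge Subgroup.le_normalizer (by rw [hN, hQ])]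
  obtain ⟨hKc, hQK, hc2⟩ := normal_card_eq hG hm hpm ha hp2 hp495 hdata hQ hQC hN hKbot hKtop
  obtain ⟨hPK, -, b, -, -, hKb, hKN, hKC⟩ := normal_data hG Ps hsmall inferInstance (h11 K inferInstance hKbot) hKtop
  obtain rfl : b = 3 := by
    rw [hKc] at hKb
    have h8 : 2 ^ b = 2 ^ 3 := by omega
    exact Nat.pow_right_injective le_rfl h8
  simp only [show 11 * 2 ^ 3 = 88 from rfl] at hKN hKC
  have hP : Nat.card (Ps : Subgroup G) = 11 := card_sylow_eq_prime (m := 720) (by rw [hG]) (by norm_num) Ps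
  obtain ⟨⟨y, hyP⟩, hy⟩ := exists_prime_orderOf_dvd_card' (G := (Ps : Subgroup G)) 11 (dvd_of_eq hP.symm)
  rw [← Subgroup.orderOf_coe] at hy
  simp only at hy
  have hno : ∀ H : Subgroup K, H.index ≠ 2 := by
    intro H hH
    let O : Subgroup G := Subgroup.closure {w | w ∈ K ∧ Odd (orderOf w)}
    haveI hON : O.Normal := by
      refine ⟨fun w hw g => ?_⟩
      have hsub : O ≤ O.comap (MulAut.conj g).toMonoidHom := by
        rw [Subgroup.closure_le]
        rintro w ⟨hwK, hwo⟩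
        show g * w * g⁻¹ ∈ O
        exact Subgroup.subset_closure ⟨‹K.Normal›.conj_mem w hwK g, by
          rw [show g * w * g⁻¹ = MulAut.conj g w from rfl, MulEquiv.orderOf_eq]; exact hwo⟩
      exact hsub hw
    have hOH : O ≤ H.map K.subtype := by
      rw [Subgroup.closure_le]
      rintro w ⟨hwK, hwo⟩
      refine ⟨⟨w, hwK⟩, ?_, rfl⟩
      obtain ⟨k, hk⟩ := hwo
      have h2 : (⟨w, hwK⟩ : K) = ((⟨w, hwK⟩ : K) ^ (k + 1)) * ((⟨w, hwK⟩ : K) ^ (k + 1)) := by
        rw [← pow_add, show k + 1 + (k + 1) = orderOf w + 1 by omega, pow_succ,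
          show (⟨w, hwK⟩ : K) ^ orderOf w = 1 from Subtype.ext (by simp [pow_orderOf_eq_one]), one_mul]
      rw [SetLike.mem_coe, h2]
      exact Subgroup.mul_self_mem_of_index_two hH _
    have hOy : y ∈ O := Subgroup.subset_closure ⟨hPK hyP, by rw [hy]; decide⟩
    have hcardH : Nat.card (H.map K.subtype) * 2 = 3960 := by
      rw [Subgroup.card_subtype, ← hKc, ← H.index_mul_card, hH]; ring
    have hOne : O ≠ ⊥ := fun h => by
      rw [h, Subgroup.mem_bot] at hOy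
      rw [hOy, orderOf_one] at hy
      norm_num at hy
    have hOtop : O ≠ ⊤ := fun h => by
      have h1 := Subgroup.card_le_of_le hOH
      rw [h, Subgroup.card_top, hG] at h1
      omega
    obtain ⟨hOc, -, -⟩ := normal_card_eq hG hm hpm ha hp2 hp495 hdata hQ hQC hN hOne hOtop
    have := Subgroup.card_le_of_le hOH
    omega
  exact false_of_inverted hp2 hKc hQ ha ha2 hc2 hQK hQx (hi 2 Nat.prime_two (Ne.symm hp2))
    fun u huK hu => eightyeight_le hKc hPK hP hKN (by omega) hno huK hu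

/-- The component `{3, 5}`. -/
theorem false_of_component [Fact (Nat.Prime 5)] (hG : Nat.card G = 7920)
    (hbad : ∀ M : Subgroup G, M.Normal → M ≠ ⊥ → M ≠ ⊤ → 495 ∣ Nat.card M)
    {g : G} (hg : orderOf g = 5 * 3)
    (hi5 : ∀ s : ℕ, s.Prime → s ≠ 5 → s ≠ 3 → ¬ ∃ g : G, orderOf g = 5 * s) : False := by
  set x5 := g ^ 3
  have hx5 : orderOf x5 = 5 := by rw [orderOf_pow' _ (by norm_num), hg]; norm_num
  set Q := Subgroup.zpowers x5
  have hQ : Nat.card Q = 5 ^ 1 := by rw [Nat.card_zpowers, hx5, pow_one]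
  set C5 := centralizer (Q : Set G)
  have hC5le : C5 ≤ centralizer {x5} :=
    Subgroup.centralizer_le (Set.singleton_subset_iff.2 (Subgroup.mem_zpowers x5))
  have hCd : ∀ s : ℕ, s.Prime → s ∣ Nat.card C5 → s = 3 ∨ s = 5 := by
    intro s hs hsd
    by_contra h
    push Not at h
    exact hi5 s hs h.2 h.1 (exists_orderOf_mul Nat.prime_five hs (Ne.symm h.2) C5 hx5 hC5le hsd)
  have h15 : 15 ∣ Nat.card C5 := by
    have h1 : Subgroup.zpowers g ≤ C5 := by
      rw [Subgroup.zpowers_le]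
      intro h hh
      obtain ⟨i, rfl⟩ := Subgroup.mem_zpowers_iff.1 hh
      exact (((Commute.refl g).pow_left 3).zpow_left i).eq
    have h2 := Subgroup.card_dvd_of_le h1
    rwa [Nat.card_zpowers, hg] at h2
  have h45 : Nat.card C5 ∣ 45 := by
    have hd := hG ▸ Subgroup.card_subgroup_dvd_card C5
    have h2 : (Nat.card C5).Coprime (2 ^ 4) := Nat.Coprime.pow_right 4
      ((Nat.prime_two.coprime_iff_not_dvd).2 fun h => by rcases hCd 2 Nat.prime_two h with h' | h' <;> omega).symm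
    have h11' : (Nat.card C5).Coprime 11 :=
      ((Nat.Prime.coprime_iff_not_dvd (by norm_num)).2 fun h => by rcases hCd 11 (by norm_num) h with h' | h' <;> omega).symm
    rw [show (7920 : ℕ) = 45 * (2 ^ 4 * 11) by norm_num] at hd
    exact (Nat.Coprime.mul_right h2 h11').dvd_of_dvd_mul_right hd
  have hC5 : Nat.card C5 = 15 ∨ Nat.card C5 = 45 := by
    obtain ⟨k, hk⟩ := h15
    have := Nat.le_of_dvd (by norm_num) h45
    have hk3 : k ≤ 3 := by omega
    interval_cases k <;> simp_all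
  have hQind : ¬ 5 ∣ Q.index := by
    have h1 := Q.index_mul_card
    rw [hG, hQ] at h1
    omega
  obtain ⟨hnQ, hnQ1⟩ := card_of_index_sylow hG ((IsPGroup.of_card hQ).toSylow hQind)
  rw [IsPGroup.toSylow_coe] at hnQ
  have he4 := Small.relIndex_centralizer_dvd_pred (p := 5) (P := Q) (by rw [hQ]; norm_num)
  have hN5 := relIndex_mul_card (show C5 ≤ normalizer (Q : Set G) from Subgroup.centralizer_le_normalizer _)
  have he45 : C5.relIndex (normalizer (Q : Set G)) = 1 := by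
    rw [← hN5] at hnQ
    have hlt : C5.relIndex (normalizer (Q : Set G)) ≤ 4 := Nat.le_of_dvd (by norm_num) he4
    rcases hC5 with h | h <;> rw [h] at hnQ <;>
      · interval_cases hh : C5.relIndex (normalizer (Q : Set G)) <;> omega
  exact false_of_selfnormalizing (a := 1) (m := 1584) hG (by norm_num) (by norm_num) le_rfl (by norm_num) (by norm_num)
    hbad (K := ⊤) (b := 4) (by rw [Subgroup.card_top, hG]; norm_num) (by norm_num) le_top hQ
    (by rw [inf_top_eq]; exact Subgroup.relIndex_eq_one.1 he45)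

theorem isSimpleGroup_of_graph (hG : Nat.card G = 7920)
    (A : Set ℕ) (hAa : ∃ a ∈ A, a.Prime ∧ a ∣ Nat.card G) (hAb : ∃ b ∉ A, b.Prime ∧ b ∣ Nat.card G)
    (hA : ∀ a ∈ A, ∀ b ∉ A, a.Prime → b.Prime → a ∣ Nat.card G → b ∣ Nat.card G →
      ¬ ∃ g : G, orderOf g = a * b) :
    IsSimpleGroup G := by
  haveI : Fact (Nat.Prime 11) := ⟨by norm_num⟩
  haveI : Fact (Nat.Prime 5) := ⟨Nat.prime_five⟩
  haveI : Fact (Nat.Prime 3) := ⟨Nat.prime_three⟩
  have hdvd : ∀ {r s : ℕ}, (∃ g : G, orderOf g = r * s) → r ∣ 7920 ∧ s ∣ 7920 := fun ⟨g, hg⟩ => by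
    have := hG ▸ orderOf_dvd_natCard g
    rw [hg] at this
    exact ⟨(dvd_mul_right _ _).trans this, (dvd_mul_left _ _).trans this⟩
  have hedge : ∀ {r s : ℕ}, r.Prime → s.Prime → (∃ g : G, orderOf g = r * s) → (r ∈ A ↔ s ∈ A) := by
    intro r s hr hs h
    obtain ⟨hrd, hsd⟩ := hdvd h
    obtain ⟨g, hg⟩ := h
    constructor
    · intro h
      by_contra h'
      exact hA r h s h' hr hs (hG ▸ hrd) (hG ▸ hsd) ⟨g, hg⟩
    · intro h
      by_contra h'
      exact hA s h r h' hs hr (hG ▸ hsd) (hG ▸ hrd) ⟨g, hg.trans (mul_comm r s)⟩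
  have hsame : ¬ ((3 ∈ A ↔ 2 ∈ A) ∧ (5 ∈ A ↔ 2 ∈ A) ∧ (11 ∈ A ↔ 2 ∈ A)) := by
    rintro ⟨e3, e5, e11⟩
    obtain ⟨a, haA, hap, had⟩ := hAa
    obtain ⟨b, hbA, hbp, hbd⟩ := hAb
    rw [hG] at had hbd
    have ha : 2 ∈ A := by
      rcases prime_dvd_7920 hap had with rfl | rfl | rfl | rfl
      exacts [haA, e3.1 haA, e5.1 haA, e11.1 haA]
    rcases prime_dvd_7920 hbp hbd with rfl | rfl | rfl | rfl
    exacts [hbA ha, hbA (e3.2 ha), hbA (e5.2 ha), hbA (e11.2 ha)]
  have h11p : Nat.Prime 11 := Fact.out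
  obtain ⟨Ps⟩ := (inferInstance : Nonempty (Sylow 11 G))
  rcases eleven_cases hG Ps with ⟨hN, h66⟩ | hsmall
  · exfalso
    obtain ⟨g2, g3, g5⟩ := edges_of_large hG Ps hN h66
    have e2 := hedge h11p Nat.prime_two g2
    have e3 := (hedge h11p Nat.prime_three g3).symm.trans e2
    refine hsame ⟨e3, ?_, e2⟩
    rcases g5 with g5 | g5
    · exact (hedge h11p Nat.prime_five g5).symm.trans e2
    · exact (hedge Nat.prime_five Nat.prime_three g5).trans e3
  have hP : Nat.card (Ps : Subgroup G) = 11 := card_sylow_eq_prime (m := 720) (by rw [hG]) (by norm_num) Ps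
  obtain ⟨⟨y, hyP⟩, hy⟩ := exists_prime_orderOf_dvd_card' (G := (Ps : Subgroup G)) 11 (dvd_of_eq hP.symm)
  rw [← Subgroup.orderOf_coe] at hy
  have e11 : Nat.card (centralizer ((Ps : Subgroup G) : Set G)) = 88 → (11 ∈ A ↔ 2 ∈ A) := fun h88 =>
    hedge h11p Nat.prime_two (exists_orderOf_mul h11p Nat.prime_two (by norm_num) _ hy
      (Subgroup.centralizer_le (Set.singleton_subset_iff.2 hyP)) (h88 ▸ by norm_num))
  have h11 : ∀ M : Subgroup G, M.Normal → M ≠ ⊥ → 11 ∣ Nat.card M := by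
    intro M hM hMbot
    by_contra h11M
    rcases hsmall with ⟨-, h88⟩ | ⟨-, hC11⟩
    · obtain ⟨g23, g52⟩ := edges_of_normal hG Ps h88 hM hMbot h11M
      exact hsame ⟨(hedge Nat.prime_two Nat.prime_three g23).symm, hedge Nat.prime_five Nat.prime_two g52, e11 h88⟩
    · rcases (Nat.dvd_prime h11p).1 (hC11 ▸ Subgroup.card_dvd_of_le (le_centralizer_of_not_dvd hG Ps hM h11M)) with h | h
      · exact hMbot (Subgroup.card_eq_one.1 h)
      · exact h11M (dvd_of_eq h.symm)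
  by_contra hns
  obtain ⟨K, hK, hKbot, hKtop⟩ : ∃ K : Subgroup G, K.Normal ∧ K ≠ ⊥ ∧ K ≠ ⊤ := by
    by_contra h
    push Not at h
    haveI : Nontrivial G := Finite.one_lt_card_iff_nontrivial.1 (by rw [hG]; norm_num)
    exact hns ⟨fun H hH => or_iff_not_imp_left.2 fun hb => h H hH hb⟩
  obtain ⟨-, h88, -⟩ := normal_data hG Ps hsmall hK (h11 K hK hKbot) hKtop
  have e2 := e11 h88
  have h2' : ∀ a, a = 3 ∨ a = 5 → ∀ s : ℕ, s.Prime → s ≠ 5 → s ≠ 3 → (∃ g : G, orderOf g = a * s) →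
      (a ∈ A ↔ 2 ∈ A) := by
    intro a ha s hs h5 h3 hg
    have he' := hedge (by rcases ha with rfl | rfl <;> norm_num) hs hg
    rcases prime_dvd_7920 hs (hdvd hg).2 with rfl | rfl | rfl | rfl
    · exact he'
    · exact absurd rfl h3
    · exact absurd rfl h5
    · exact he'.trans e2
  haveI := hK
  by_cases h53 : ∃ g : G, orderOf g = 5 * 3
  · have e53 := hedge Nat.prime_five Nat.prime_three h53
    obtain ⟨g, hg⟩ := h53
    refine false_of_component hG (fun M hM h1 h2 => ?_) hg fun s hs a b hg' => ?_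
    · obtain ⟨-, -, b', -, -, hb', -, -⟩ := normal_data hG Ps hsmall hM (h11 M hM h1) h2
      exact hb' ▸ dvd_mul_right 495 _
    · have := h2' 5 (Or.inr rfl) s hs a b hg'
      exact hsame ⟨e53.symm.trans this, this, e2⟩
  · by_cases h5 : ∃ s : ℕ, s.Prime ∧ s ≠ 5 ∧ ∃ g : G, orderOf g = 5 * s
    · obtain ⟨s, hs, hs5, hg⟩ := h5
      have hs3 : s ≠ 3 := by rintro rfl; exact h53 hg
      refine false_of_isolated (p := 3) (a := 2) (m := 880) hG (by norm_num) (by norm_num) (by norm_num) le_rfl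
        (by norm_num) (by norm_num) Ps hsmall h11 hKbot hKtop (fun s' hs' hs3' hg' => ?_)
        (fun Q n' hQ _ hQx hn hn1 => card_normalizer_three hQ hQx hn hn1)
      have hs5' : s' ≠ 5 := by
        rintro rfl
        exact h53 (by simpa using hg')
      exact hsame ⟨h2' 3 (Or.inl rfl) s' hs' hs5' hs3' hg', h2' 5 (Or.inr rfl) s hs hs5 hs3 hg, e2⟩
    · exact false_of_isolated (p := 5) (a := 1) (m := 1584) hG (by norm_num) (by norm_num) le_rfl (by norm_num)
        (by norm_num) (by norm_num) Ps hsmall h11 hKbot hKtop (fun s hs h h' => h5 ⟨s, hs, h, h'⟩)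
        (fun Q n' hQ hQC _ hn hn1 => card_normalizer_five hQ hQC hn hn1)

end CfsgLib.GraphSimple
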