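import Cfsg.Agent.GraphSimple.Main

set_option autoImplicit false

/-!
Order 7920: the normaliser of a Sylow 11-subgroup and the normal subgroups.
-/

namespace CfsgLib.GraphSimple

open Subgroup

variable {G : Type*} [Group G] [Finite G]

theorem card_sylow_eq_prime {p m : ℕ} [Fact p.Prime] (hG : Nat.card G = p * m) (hm : ¬ p ∣ m) (P : Sylow p G) :
    Nat.card (P : Subgroup G) = p := by
  rw [P.card_eq_multiplicity, hG, Nat.factorization_mul (Fact.out : p.Prime).ne_zero
    (by rintro rfl; exact hm (dvd_zero p)), Finsupp.add_apply, Nat.Prime.factorization_self Fact.out,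
    Nat.factorization_eq_zero_of_not_dvd hm]
  simp

theorem le_centralizer_of_cyclic_prime {p : ℕ} [Fact p.Prime] {P : Subgroup G} (hP : Nat.card P = p) :
    P ≤ centralizer (P : Set G) := by
  intro a ha b hb
  haveI : IsCyclic P := isCyclic_of_prime_card hP
  exact congrArg Subtype.val ((IsCyclic.commGroup (α := P)).mul_comm ⟨b, hb⟩ ⟨a, ha⟩)

theorem relIndex_mul_card {H K : Subgroup G} (h : H ≤ K) : H.relIndex K * Nat.card H = Nat.card K := by
  rw [← Nat.card_congr (Subgroup.subgroupOfEquivOfLe h).toEquiv]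
  exact (H.subgroupOf K).index_mul_card

variable [Fact (Nat.Prime 11)]

/-- A normal subgroup of order prime to 11 centralises the Sylow 11-subgroup. -/
theorem le_centralizer_of_not_dvd (hG : Nat.card G = 7920) (Ps : Sylow 11 G) {K : Subgroup G} (hK : K.Normal)
    (h11K : ¬ 11 ∣ Nat.card K) : K ≤ centralizer ((Ps : Subgroup G) : Set G) := by
  set P : Subgroup G := (Ps : Subgroup G)
  have hP : Nat.card P = 11 := card_sylow_eq_prime (m := 720) (by rw [hG]) (by norm_num) Ps
  have hcopK : (Nat.card P).Coprime (Nat.card K) :=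
    hP ▸ (Nat.Prime.coprime_iff_not_dvd (by norm_num)).2 h11K
  have hsolv : Group.IsSolvable P := by
    haveI : IsCyclic P := isCyclic_of_prime_card hP
    letI := IsCyclic.commGroup (α := P)
    exact inferInstance
  have hall : Nat.card K ∣ Nat.card ↥(K ⊓ centralizer (P : Set G)) := by
    rw [Nat.dvd_iff_prime_pow_dvd_dvd]
    intro q k hq hqk
    haveI := Fact.mk hq
    rcases Nat.eq_zero_or_pos k with rfl | hk
    · simp
    obtain ⟨R, hR⟩ := Coprime.exists_invariant_sylow (A := P) (G := K)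
      (fun a _ => by rw [Subgroup.normalizer_eq_top_iff.2 hK]; exact Subgroup.mem_top a) hcopK (Or.inl hsolv) q
    set R' := (R : Subgroup K).map K.subtype
    have hRle : R' ≤ K := Subgroup.map_subtype_le _
    obtain ⟨b, hb⟩ := IsPGroup.iff_card.1 (R.2.map K.subtype)
    have hqK : q ∣ Nat.card K := (dvd_pow_self q hk.ne').trans hqk
    have hR'd : q ^ b ∣ 720 := by
      have h1 : q ^ b ∣ 11 * 720 := by
        rw [← hb, show 11 * 720 = 7920 by norm_num, ← hG]; exact Subgroup.card_subgroup_dvd_card R'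
      refine (Nat.Coprime.pow_left b ((Nat.coprime_primes hq (by norm_num)).2 ?_)).dvd_of_dvd_mul_left h1
      rintro rfl
      exact h11K hqK
    have hb4 : b ≤ 4 := by
      by_contra hb5
      have h6 : q ^ 5 ∣ 720 := (pow_dvd_pow q (by omega : 5 ≤ b)).trans hR'd
      rcases prime_dvd_7920 hq (hG ▸ hqK.trans (Subgroup.card_subgroup_dvd_card K)) with rfl | rfl | rfl | rfl <;>
        norm_num at h6
    have hRC : R' ≤ centralizer (P : Set G) := by
      refine le_centralizer_of_mod (p := 11) (IsPGroup.of_card (n := 1) (by rw [hP]; norm_num)) hR ?_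
      rw [hb]
      intro d hd hmod
      obtain ⟨s, hs, rfl⟩ := (Nat.dvd_prime_pow hq).1 hd
      rcases prime_dvd_7920 hq (hG ▸ hqK.trans (Subgroup.card_subgroup_dvd_card K)) with rfl | rfl | rfl | rfl
      · interval_cases b <;> interval_cases s <;> omega
      · interval_cases b <;> interval_cases s <;> first | omega | (norm_num at hR'd)
      · interval_cases b <;> interval_cases s <;> first | omega | (norm_num at hR'd)
      · exact absurd hqK h11K
    refine dvd_trans ?_ (Subgroup.card_dvd_of_le (le_inf hRle hRC))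
    rw [Subgroup.card_subtype, R.card_eq_multiplicity]
    exact pow_dvd_pow q ((Nat.Prime.pow_dvd_iff_le_factorization hq Nat.card_pos.ne').1 hqk)
  exact inf_eq_left.1 (Subgroup.eq_of_le_of_card_ge inf_le_left (Nat.le_of_dvd Nat.card_pos hall))

/-- The possible shapes of the normaliser and centraliser of a Sylow 11-subgroup. -/
theorem eleven_cases (hG : Nat.card G = 7920) (Ps : Sylow 11 G) :
    (Nat.card (normalizer ((Ps : Subgroup G) : Set G)) = 7920 ∨ Nat.card (normalizer ((Ps : Subgroup G) : Set G)) = 660) ∧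
        66 ∣ Nat.card (centralizer ((Ps : Subgroup G) : Set G)) ∨
      Nat.card (normalizer ((Ps : Subgroup G) : Set G)) = 176 ∧ Nat.card (centralizer ((Ps : Subgroup G) : Set G)) = 88 ∨
      Nat.card (normalizer ((Ps : Subgroup G) : Set G)) = 55 ∧ Nat.card (centralizer ((Ps : Subgroup G) : Set G)) = 11 := by
  set P : Subgroup G := (Ps : Subgroup G) with hPdef
  set N := normalizer (P : Set G)
  set C := centralizer (P : Set G)
  have hP : Nat.card P = 11 := card_sylow_eq_prime (m := 720) (by rw [hG]) (by norm_num) Ps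
  obtain ⟨hnN, hn1⟩ := card_of_index_sylow hG Ps
  rw [← hPdef] at hnN
  set n := Nat.card (Sylow 11 G)
  change n * Nat.card N = 7920 at hnN
  have hCN : C ≤ N := Subgroup.centralizer_le_normalizer _
  have he : C.relIndex N ∣ 10 := Small.relIndex_centralizer_dvd_pred hP
  have heC : C.relIndex N * Nat.card C = Nat.card N := relIndex_mul_card hCN
  have hdiv10 : C.relIndex N = 1 ∨ C.relIndex N = 2 ∨ C.relIndex N = 5 ∨ C.relIndex N = 10 := by
    have hm : C.relIndex N ∈ Nat.divisors 10 := Nat.mem_divisors.2 ⟨he, by norm_num⟩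
    rw [show Nat.divisors 10 = {1, 2, 5, 10} by decide] at hm
    simpa using hm
  have hn : n = 1 ∨ n = 12 ∨ n = 45 ∨ n = 144 := by
    have hdvd : n ∣ 720 := by
      have h1 : n ∣ 11 * 720 := by norm_num; exact ⟨_, hnN.symm⟩
      refine (Nat.Coprime.symm ((Nat.Prime.coprime_iff_not_dvd (by norm_num : Nat.Prime 11)).2 ?_)).dvd_of_dvd_mul_left h1
      omega
    have hmem : n ∈ Nat.divisors 720 := Nat.mem_divisors.2 ⟨hdvd, by norm_num⟩
    have hall : ∀ d ∈ Nat.divisors 720, d % 11 = 1 → d = 1 ∨ d = 12 ∨ d = 45 ∨ d = 144 := by decide +kernel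
    exact hall n hmem hn1
  have hburn : C.relIndex N = 1 → n = 1 := by
    intro h1
    have hle : N ⊓ ⊤ ≤ C := by rw [inf_top_eq]; exact Subgroup.relIndex_eq_one.1 h1
    obtain ⟨M, hMn, -, hM⟩ := exists_normal_complement (p := 11) (a := 1) (K := (⊤ : Subgroup G)) (H := P) le_top
      (by rw [hP]; norm_num) (by rw [Subgroup.card_top, hG, hP]; norm_num) hle
    rw [Subgroup.card_top, hG, hP] at hM
    have hMcard : Nat.card M = 720 := by omega
    have h2 := (Subgroup.card_dvd_of_le (le_centralizer_of_not_dvd hG Ps hMn (by rw [hMcard]; norm_num))).trans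
      (Subgroup.card_dvd_of_le hCN)
    rw [hMcard] at h2
    rcases hn with h | h | h | h <;> rw [h] at hnN <;> omega
  rcases hn with h | h | h | h <;> rw [h] at hnN
  · left
    refine ⟨Or.inl (by omega), ?_⟩
    rcases hdiv10 with he' | he' | he' | he' <;> rw [he'] at heC <;> omega
  · left
    refine ⟨Or.inr (by omega), ?_⟩
    rcases hdiv10 with he' | he' | he' | he' <;> rw [he'] at heC <;> omega
  · right; left
    refine ⟨by omega, ?_⟩
    rcases hdiv10 with he' | he' | he' | he'
    · exact absurd (hburn he') (by omega)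
    all_goals rw [he'] at heC
    all_goals omega
  · right; right
    refine ⟨by omega, ?_⟩
    rcases hdiv10 with he' | he' | he' | he'
    · exact absurd (hburn he') (by omega)
    all_goals rw [he'] at heC
    all_goals omega

/-- The edges in the case of a large normaliser. -/
theorem edges_of_large (hG : Nat.card G = 7920) (Ps : Sylow 11 G) [Fact (Nat.Prime 3)] [Fact (Nat.Prime 5)]
    (hN : Nat.card (normalizer ((Ps : Subgroup G) : Set G)) = 7920 ∨ Nat.card (normalizer ((Ps : Subgroup G) : Set G)) = 660)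
    (h66 : 66 ∣ Nat.card (centralizer ((Ps : Subgroup G) : Set G))) :
    (∃ g : G, orderOf g = 11 * 2) ∧ (∃ g : G, orderOf g = 11 * 3) ∧
      ((∃ g : G, orderOf g = 11 * 5) ∨ ∃ g : G, orderOf g = 5 * 3) := by
  set P : Subgroup G := (Ps : Subgroup G)
  set N := normalizer (P : Set G)
  set C := centralizer (P : Set G)
  have hCN : C ≤ N := Subgroup.centralizer_le_normalizer _
  have hP : Nat.card P = 11 := card_sylow_eq_prime (m := 720) (by rw [hG]) (by norm_num) Ps
  obtain ⟨⟨y, hyP⟩, hy⟩ := exists_prime_orderOf_dvd_card' (G := P) 11 (dvd_of_eq hP.symm)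
  rw [← Subgroup.orderOf_coe] at hy
  have hCy : C ≤ centralizer {y} := Subgroup.centralizer_le (Set.singleton_subset_iff.2 hyP)
  refine ⟨exists_orderOf_mul (by norm_num) Nat.prime_two (by norm_num) C hy hCy (dvd_trans (by norm_num) h66),
    exists_orderOf_mul (by norm_num) Nat.prime_three (by norm_num) C hy hCy (dvd_trans (by norm_num) h66), ?_⟩
  by_cases h5C : 5 ∣ Nat.card C
  · exact Or.inl (exists_orderOf_mul (by norm_num) Nat.prime_five (by norm_num) C hy hCy h5C)
  right
  haveI hnor : (C.subgroupOf N).Normal := by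
    rw [← Subgroup.normalizerMonoidHom_ker P]
    exact MonoidHom.normal_ker _
  obtain ⟨T⟩ := (inferInstance : Nonempty (Sylow 3 (C.subgroupOf N)))
  set T₁ : Subgroup N := (T : Subgroup (C.subgroupOf N)).map (C.subgroupOf N).subtype
  have hcardC : Nat.card (C.subgroupOf N) = Nat.card C := Nat.card_congr (Subgroup.subgroupOfEquivOfLe hCN).toEquiv
  obtain ⟨b, hb⟩ := IsPGroup.iff_card.1 (T.2.map (C.subgroupOf N).subtype)
  have h3T : 3 ∣ Nat.card T₁ := by
    rw [Subgroup.card_subtype]
    exact T.dvd_card_of_dvd_card (hcardC.symm ▸ dvd_trans (by norm_num) h66)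
  have hb2 : b ≤ 2 := by
    have h1 : 3 ^ b ∣ 7920 := by
      rw [← hb, ← hG]
      exact (Subgroup.card_subgroup_dvd_card T₁).trans (Subgroup.card_subgroup_dvd_card N)
    by_contra hb3
    have := (pow_dvd_pow 3 (by omega : 3 ≤ b)).trans h1
    norm_num at this
  have hfr := Sylow.normalizer_sup_eq_top T
  have h1 := card_mul_card_inf (K := C.subgroupOf N) hfr
  rw [hcardC] at h1
  have h5N : 5 ∣ Nat.card N := by rcases hN with h | h <;> rw [h] <;> norm_num
  have h5M : 5 ∣ Nat.card (normalizer (T₁ : Set N)) := by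
    rcases (Nat.Prime.dvd_mul Nat.prime_five).1 (h1 ▸ h5N.mul_right _) with h | h
    · exact h
    · exact absurd h h5C
  obtain ⟨z, hz⟩ := exists_prime_orderOf_dvd_card' (G := normalizer (T₁ : Set N)) 5 h5M
  rw [← Subgroup.orderOf_coe] at hz
  have hcen := le_centralizer_of_mod (p := 5) (H := Subgroup.zpowers (z : N)) (Q := T₁)
    (IsPGroup.of_card (n := 1) (by rw [Nat.card_zpowers, hz, pow_one]))
    (Subgroup.zpowers_le.2 z.2) (by
      rw [hb]
      intro d hd hmod
      obtain ⟨s, hs, rfl⟩ := (Nat.dvd_prime_pow Nat.prime_three).1 hd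
      interval_cases b <;> interval_cases s <;> omega)
  obtain ⟨g, hg⟩ := exists_orderOf_mul Nat.prime_five Nat.prime_three (by norm_num) T₁ hz
    (fun w hw => Subgroup.mem_centralizer_singleton_iff.2 ((hcen hw) _ (Subgroup.mem_zpowers _)).symm) h3T
  exact ⟨(g : G), by rw [Subgroup.orderOf_coe]; exact hg⟩

/-- The edges coming from a normal subgroup of order prime to 11. -/
theorem edges_of_normal (hG : Nat.card G = 7920) (Ps : Sylow 11 G) [Fact (Nat.Prime 3)] [Fact (Nat.Prime 5)]
    (h88 : Nat.card (centralizer ((Ps : Subgroup G) : Set G)) = 88) {K : Subgroup G} (hK : K.Normal) (hKbot : K ≠ ⊥)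
    (h11K : ¬ 11 ∣ Nat.card K) : (∃ g : G, orderOf g = 2 * 3) ∧ ∃ g : G, orderOf g = 5 * 2 := by
  haveI : Fact (Nat.Prime 2) := ⟨Nat.prime_two⟩
  have hKC := le_centralizer_of_not_dvd hG Ps hK h11K
  have hK8 : Nat.card K ∣ 8 := by
    have h1 : Nat.card K ∣ 11 * 8 := by norm_num; exact h88 ▸ Subgroup.card_dvd_of_le hKC
    exact ((Nat.Prime.coprime_iff_not_dvd (by norm_num)).2 h11K).symm.dvd_of_dvd_mul_left h1
  obtain ⟨j, hj, hKj⟩ := (Nat.dvd_prime_pow Nat.prime_two).1 (show Nat.card K ∣ 2 ^ 3 from hK8)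
  have hj1 : 1 ≤ j := by
    by_contra h0
    rw [show j = 0 by omega, pow_zero] at hKj
    exact hKbot (Subgroup.card_eq_one.1 hKj)
  have hKle : Nat.card K ≤ 8 := Nat.le_of_dvd (by norm_num) hK8
  have h2K : 2 ∣ Nat.card K := hKj ▸ dvd_pow_self 2 (by omega)
  obtain ⟨⟨z, hzK⟩, hz⟩ := exists_prime_orderOf_dvd_card' (G := K) 2 h2K
  rw [← Subgroup.orderOf_coe] at hz
  simp only at hz
  have hz1 : z ≠ 1 := by rintro rfl; rw [orderOf_one] at hz; norm_num at hz
  have hidx := index_centralizer_lt hzK hz1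
  refine ⟨exists_orderOf_mul Nat.prime_two Nat.prime_three (by norm_num) _ hz le_rfl ?_, ?_⟩
  · have h1 := (centralizer ({z} : Set G)).index_mul_card
    rw [hG] at h1
    by_contra h3c
    have h10 := (Nat.Coprime.pow_left 2 ((Nat.prime_three.coprime_iff_not_dvd).2 h3c)).dvd_of_dvd_mul_right
      (show 3 ^ 2 ∣ (centralizer ({z} : Set G)).index * Nat.card (centralizer ({z} : Set G)) by rw [h1]; norm_num)
    have hpos : 0 < (centralizer ({z} : Set G)).index := Nat.pos_of_ne_zero Subgroup.index_ne_zero_of_finite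
    have := Nat.le_of_dvd hpos h10
    omega
  · obtain ⟨Q⟩ := (inferInstance : Nonempty (Sylow 5 G))
    have hQ : Nat.card (Q : Subgroup G) = 5 := card_sylow_eq_prime (m := 1584) (by rw [hG]) (by norm_num) Q
    have hcen := le_centralizer_of_mod (p := 5) (H := (Q : Subgroup G)) (Q := K) Q.2
      (by rw [Subgroup.normalizer_eq_top_iff.2 hK]; exact le_top) (by
        rw [hKj]
        intro d hd hmod
        obtain ⟨s, hs, rfl⟩ := (Nat.dvd_prime_pow Nat.prime_two).1 hd
        interval_cases j <;> interval_cases s <;> omega)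
    obtain ⟨⟨w, hwQ⟩, hw⟩ := exists_prime_orderOf_dvd_card' (G := (Q : Subgroup G)) 5 (dvd_of_eq hQ.symm)
    rw [← Subgroup.orderOf_coe] at hw
    exact exists_orderOf_mul Nat.prime_five Nat.prime_two (by norm_num) K hw
      (fun v hv => Subgroup.mem_centralizer_singleton_iff.2 ((hcen hv) w hwQ).symm) h2K

/-- Normal subgroups of order divisible by 11. -/
theorem normal_data (hG : Nat.card G = 7920) (Ps : Sylow 11 G)
    (hsmall : Nat.card (normalizer ((Ps : Subgroup G) : Set G)) = 176 ∧
        Nat.card (centralizer ((Ps : Subgroup G) : Set G)) = 88 ∨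
      Nat.card (normalizer ((Ps : Subgroup G) : Set G)) = 55 ∧ Nat.card (centralizer ((Ps : Subgroup G) : Set G)) = 11)
    {K : Subgroup G} (hK : K.Normal) (h11K : 11 ∣ Nat.card K) (hKtop : K ≠ ⊤) :
    (Ps : Subgroup G) ≤ K ∧ Nat.card (centralizer ((Ps : Subgroup G) : Set G)) = 88 ∧
      ∃ b, 1 ≤ b ∧ b ≤ 3 ∧ Nat.card K = 495 * 2 ^ b ∧
        Nat.card ↥(K ⊓ normalizer ((Ps : Subgroup G) : Set G)) = 11 * 2 ^ b ∧
        Nat.card ↥(K ⊓ centralizer ((Ps : Subgroup G) : Set G)) * 2 = 11 * 2 ^ b := by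
  set P : Subgroup G := (Ps : Subgroup G) with hPdef
  set N := normalizer (P : Set G)
  set C := centralizer (P : Set G)
  haveI := hK
  have hCN : C ≤ N := Subgroup.centralizer_le_normalizer _
  have hP : Nat.card P = 11 := card_sylow_eq_prime (m := 720) (by rw [hG]) (by norm_num) Ps
  have hPK : P ≤ K := by
    obtain ⟨z, hz⟩ := exists_prime_orderOf_dvd_card' (G := K) 11 h11K
    rw [← Subgroup.orderOf_coe] at hz
    obtain ⟨Q, hQ⟩ := (IsPGroup.of_card (n := 1) (p := 11) (G := Subgroup.zpowers (z : G))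
      (by rw [Nat.card_zpowers, hz, pow_one])).exists_le_sylow
    have hQ11 : Nat.card (Q : Subgroup G) = 11 := card_sylow_eq_prime (m := 720) (by rw [hG]) (by norm_num) Q
    have hQz : Subgroup.zpowers (z : G) = Q :=
      Subgroup.eq_of_le_of_card_ge hQ (by rw [Nat.card_zpowers, hz, hQ11])
    obtain ⟨g, hg⟩ := MulAction.exists_smul_eq G Q Ps
    intro w hw
    have hw' : w ∈ (↑(g • Q) : Subgroup G) := by rw [hg]; exact hw
    rw [Sylow.coe_subgroup_smul, ← hQz, Subgroup.mem_smul_pointwise_iff_exists] at hw'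
    obtain ⟨v, hv, rfl⟩ := hw'
    exact hK.conj_mem v ((Subgroup.zpowers_le.2 z.2) hv) g
  have hPN : P ≤ N := Subgroup.le_normalizer
  have hfr : N ⊔ K = ⊤ := Sylow.normalizer_sup_eq_top' Ps hPK
  have h1 := card_mul_card_inf hfr
  rw [hG] at h1
  have hKlt : Nat.card K < 7920 := by
    rw [← hG]
    exact lt_of_le_of_ne (Subgroup.card_le_card_group K) fun h => hKtop (Subgroup.eq_top_of_card_eq K h)
  have hN11 : 11 ∣ Nat.card ↥(K ⊓ N) := hP ▸ Subgroup.card_dvd_of_le (le_inf hPK hPN)
  have hNdvd : Nat.card ↥(K ⊓ N) ∣ Nat.card N := Subgroup.card_dvd_of_le inf_le_right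
  have hcardeq : ∀ c, Nat.card ↥(K ⊓ N) = c → 7920 * c = Nat.card N * Nat.card K := fun c hc => hc ▸ h1
  have hne : ¬ N ⊓ K ≤ C := by
    intro hle
    have hK11 : ¬ 11 ∣ Nat.card K / Nat.card P := by
      rw [hP]
      intro h
      have h' : 11 * 11 ∣ Nat.card K := (Nat.dvd_div_iff_mul_dvd h11K).1 h
      have := h'.trans (hG ▸ Subgroup.card_subgroup_dvd_card K)
      norm_num at this
    obtain ⟨M, hMn, hMK, hM⟩ := exists_normal_complement (p := 11) (a := 1) hPK (by rw [hP]; norm_num) hK11 hle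
    rw [hP] at hM
    have h11M : ¬ 11 ∣ Nat.card M := by
      rw [hP, ← hM, Nat.mul_div_cancel _ (by norm_num)] at hK11
      exact hK11
    have h3 := Subgroup.card_dvd_of_le (le_inf hMK ((le_centralizer_of_not_dvd hG Ps hMn h11M).trans hCN))
    have h4 := Nat.le_of_dvd Nat.card_pos h3
    obtain ⟨c, hc⟩ := hN11
    have h5 := hcardeq _ hc
    rw [← hM] at h5
    rw [hc] at h4 hNdvd
    rcases hsmall with ⟨h, -⟩ | ⟨h, -⟩ <;> rw [h] at h5 hNdvd <;>
      · have := Nat.card_pos (α := M)
        omega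
  rcases hsmall with ⟨h176, h88⟩ | ⟨h55, -⟩
  swap
  · exfalso
    obtain ⟨c, hc⟩ := hN11
    rw [hc, h55, show (55 : ℕ) = 11 * 5 by norm_num] at hNdvd
    have h5c : c ∣ 5 := (Nat.mul_dvd_mul_iff_left (by norm_num)).1 hNdvd
    rcases (Nat.dvd_prime Nat.prime_five).1 h5c with rfl | rfl
    · apply hne
      rw [inf_comm, ← Subgroup.eq_of_le_of_card_ge (le_inf hPK hPN) (by rw [hc, hP])]
      exact le_centralizer_of_cyclic_prime hP
    · have h6 := hcardeq _ hc
      rw [h55] at h6
      omega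
  obtain ⟨c, hc⟩ := hN11
  have hd' : 11 * c ∣ 11 * 2 ^ 4 := by rw [← hc]; norm_num; exact h176 ▸ hNdvd
  obtain ⟨b, hb, rfl⟩ := (Nat.dvd_prime_pow Nat.prime_two).1 ((Nat.mul_dvd_mul_iff_left (by norm_num)).1 hd')
  have h6 := hcardeq _ hc
  rw [h176] at h6
  have hKC : Nat.card ↥(K ⊓ C) * 2 = 11 * 2 ^ b := by
    have hsub : K ⊓ C ≤ K ⊓ N := inf_le_inf_left K hCN
    have hmul := relIndex_mul_card hsub
    have hrel : (K ⊓ C).relIndex (K ⊓ N) ≤ C.relIndex N := by
      rw [show (K ⊓ C).relIndex (K ⊓ N) = C.relIndex (K ⊓ N) by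
        rw [← Subgroup.inf_relIndex_right C (K ⊓ N)]
        congr 1
        rw [inf_left_comm, inf_eq_left.2 hCN]]
      exact Subgroup.relIndex_le_of_le_right inf_le_right Subgroup.index_ne_zero_of_finite
    have he2 : C.relIndex N = 2 := by
      have := relIndex_mul_card hCN
      rw [h176, h88] at this
      omega
    have h7 : (K ⊓ C).relIndex (K ⊓ N) ≠ 1 := fun h => by
      apply hne
      rw [inf_comm]
      exact (Subgroup.relIndex_eq_one.1 h).trans inf_le_right
    have h8 : (K ⊓ C).relIndex (K ⊓ N) ≠ 0 := Subgroup.index_ne_zero_of_finite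
    rw [show (K ⊓ C).relIndex (K ⊓ N) = 2 by omega, hc] at hmul
    omega
  refine ⟨hPK, h88, b, ?_, ?_, ?_, hc, hKC⟩
  · by_contra h
    rw [show b = 0 by omega, pow_zero] at hKC
    omega
  · by_contra h
    rw [show b = 4 by omega] at h6
    norm_num at h6
    omega
  · omega

end CfsgLib.GraphSimple
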