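import Cfsg.Agent.GraphSimple.Tools
import Cfsg.Agent.Small.SimpleTools

set_option autoImplicit false

/-!
Order 7920: isolated primes, involution centralisers and the final counting step.
-/

namespace CfsgLib.GraphSimple

open Subgroup

variable {G : Type*} [Group G] [Finite G]

theorem prime_dvd_7920 {p : ℕ} (hp : p.Prime) (h : p ∣ 7920) : p = 2 ∨ p = 3 ∨ p = 5 ∨ p = 11 := by
  rw [show 7920 = 2 ^ 4 * (3 ^ 2 * (5 * 11)) by norm_num] at h
  rcases hp.dvd_mul.1 h with h | h
  · exact Or.inl ((Nat.prime_dvd_prime_iff_eq hp Nat.prime_two).1 (hp.dvd_of_dvd_pow h))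
  rcases hp.dvd_mul.1 h with h | h
  · exact Or.inr (Or.inl ((Nat.prime_dvd_prime_iff_eq hp Nat.prime_three).1 (hp.dvd_of_dvd_pow h)))
  rcases hp.dvd_mul.1 h with h | h
  · exact Or.inr (Or.inr (Or.inl ((Nat.prime_dvd_prime_iff_eq hp Nat.prime_five).1 h)))
  · exact Or.inr (Or.inr (Or.inr ((Nat.prime_dvd_prime_iff_eq hp (by norm_num)).1 h)))

/-- A centraliser whose order involves only one prime lies in a `p`-group. -/
theorem centralizer_eq_of_isolated {p : ℕ} [Fact p.Prime] {Q : Subgroup G} {x : G} {a : ℕ}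
    (hQ : Nat.card Q = p ^ a) (hmax : ¬ p ^ (a + 1) ∣ Nat.card G) (hQx : Q ≤ centralizer {x})
    (hx : orderOf x = p) (hiso : ∀ s : ℕ, s.Prime → s ≠ p → ¬ ∃ g : G, orderOf g = p * s) :
    centralizer {x} = Q := by
  refine (Subgroup.eq_of_le_of_card_ge hQx ?_).symm
  have hpp : IsPGroup p (centralizer ({x} : Set G)) := by
    rw [IsPGroup.iff_card]
    refine ⟨_, Nat.eq_prime_pow_of_unique_prime_dvd Nat.card_pos.ne' (fun {d} hd hdv => ?_)⟩
    by_contra hne
    exact hiso d hd hne (exists_orderOf_mul Fact.out hd (Ne.symm hne) _ hx le_rfl hdv)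
  obtain ⟨k, hk⟩ := IsPGroup.iff_card.1 hpp
  rw [hk, hQ]
  refine Nat.pow_le_pow_right (Fact.out : p.Prime).pos ?_
  by_contra hlt
  exact hmax ((pow_dvd_pow p (by omega : a + 1 ≤ k)).trans (hk ▸ Subgroup.card_subgroup_dvd_card _))

/-- The final counting step. -/
theorem false_of_inverted {K Q : Subgroup G} {a : ℕ} {r : ℕ} [Fact r.Prime] (hr2 : r ≠ 2)
    (hcardK : Nat.card K = 3960) (hQ : Nat.card Q = r ^ a) (ha1 : 1 ≤ a) (ha2 : a ≤ 2)
    (hNQ : Nat.card ↥(K ⊓ normalizer (Q : Set G)) = 2 * r ^ a) (hQK : Q ≤ K)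
    (hC : ∀ x ∈ Q, orderOf x = r → centralizer {x} = Q)
    (hiso : ¬ ∃ g : G, orderOf g = r * 2)
    (hinv : ∀ u ∈ K, orderOf u = 2 → 88 ≤ Nat.card ↥(K ⊓ centralizer {u})) : False := by
  haveI : Fact (Nat.Prime 2) := ⟨Nat.prime_two⟩
  obtain ⟨⟨t, htK, htN⟩, ht⟩ :=
    exists_prime_orderOf_dvd_card' (G := ↥(K ⊓ normalizer (Q : Set G))) 2 (hNQ ▸ dvd_mul_right 2 _)
  rw [← Subgroup.orderOf_coe] at ht
  simp only at ht
  have ht2 : t * t = 1 := by rw [← pow_two, ← ht, pow_orderOf_eq_one]
  have hfp : ∀ y ∈ Q, t * y = y * t → y = 1 := by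
    intro y hy hcomm
    by_contra hy1
    have hd : orderOf y ∣ r ^ a := hQ ▸ Subgroup.orderOf_dvd_natCard _ hy
    obtain ⟨j, -, hj⟩ := (Nat.dvd_prime_pow Fact.out).1 hd
    have hj1 : 1 ≤ j := by
      rcases Nat.eq_zero_or_pos j with rfl | h
      · exact absurd (orderOf_eq_one_iff.1 (by simpa using hj)) hy1
      · exact h
    have hyr : orderOf (y ^ (r ^ (j - 1))) = r := by
      rw [orderOf_pow' _ (pow_ne_zero _ (Fact.out : r.Prime).ne_zero), hj,
        Nat.gcd_eq_right (pow_dvd_pow r (Nat.sub_le j 1)), Nat.pow_div (Nat.sub_le j 1) (Fact.out : r.Prime).pos,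
        show j - (j - 1) = 1 by omega, pow_one]
    refine hiso (exists_orderOf_mul Fact.out Nat.prime_two hr2 (Subgroup.zpowers t) hyr ?_ (by rw [Nat.card_zpowers, ht]))
    rw [Subgroup.zpowers_le, Subgroup.mem_centralizer_singleton_iff]
    exact ((Commute.pow_right hcomm _)).eq
  obtain ⟨⟨x, hxQ⟩, hx⟩ := exists_prime_orderOf_dvd_card' (G := Q) r (hQ ▸ dvd_pow_self r (by omega))
  rw [← Subgroup.orderOf_coe] at hx
  simp only at hx
  have hinvx := inverts_of_fpf ht2 htN hfp hxQ
  have hle := card_le_index_sq (G := K) (t := ⟨t, htK⟩) (x := ⟨x, hQK hxQ⟩) (Subtype.ext ht2)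
    (Subtype.ext hinvx) (by rw [← Subgroup.orderOf_coe]; simp only; rw [hx]; exact (Fact.out : r.Prime).odd_of_ne_two hr2) (fun g h1 h2 => by
      have hgC : (g : G) ∈ centralizer ({x} : Set G) :=
        Subgroup.mem_centralizer_singleton_iff.2 (congrArg Subtype.val h2)
      rw [hC x hxQ hx] at hgC
      exact Subtype.ext (hfp _ hgC (congrArg Subtype.val h1).symm))
  have hindex : (centralizer ({⟨t, htK⟩} : Set K)).index ≤ 45 := by
    have h1 := (centralizer ({⟨t, htK⟩} : Set K)).index_mul_card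
    have h2 := hinv t htK ht
    have h3 : Nat.card ↥(K ⊓ centralizer {t}) ≤ Nat.card (centralizer ({⟨t, htK⟩} : Set K)) := by
      refine Nat.card_le_card_of_injective (fun g => ⟨⟨g.1, g.2.1⟩, Subgroup.mem_centralizer_singleton_iff.2
        (Subtype.ext (Subgroup.mem_centralizer_singleton_iff.1 g.2.2))⟩) fun g g' h => ?_
      exact Subtype.ext (congrArg (fun z : centralizer ({⟨t, htK⟩} : Set K) => ((z : K) : G)) h)
    rw [hcardK] at h1
    nlinarith [Nat.mul_le_mul_left (centralizer ({⟨t, htK⟩} : Set K)).index (h2.trans h3)]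
  have := hle.trans (Nat.mul_le_mul hindex hindex)
  omega

theorem exists_pow_of_mem_zpowers {H : Type*} [Group H] [Finite H] {x y : H} (h : y ∈ Subgroup.zpowers x) :
    ∃ i < orderOf x, x ^ i = y := by
  obtain ⟨i, rfl⟩ := Submonoid.mem_powers_iff _ _ |>.1 (mem_powers_iff_mem_zpowers.2 h)
  exact ⟨i % orderOf x, Nat.mod_lt _ (orderOf_pos x), pow_mod_orderOf x i⟩

/-- Every involution of `K` has centraliser of order at least 88. -/
theorem eightyeight_le {K P : Subgroup G} [Fact (Nat.Prime 11)] (hcardK : Nat.card K = 3960)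
    (hPK : P ≤ K) (hP : Nat.card P = 11)
    (hN : Nat.card ↥(K ⊓ normalizer (P : Set G)) = 88) (hC : Nat.card ↥(K ⊓ centralizer (P : Set G)) = 44)
    (hno : ∀ H : Subgroup K, H.index ≠ 2) {u : G} (huK : u ∈ K) (hu : orderOf u = 2) :
    88 ≤ Nat.card ↥(K ⊓ centralizer {u}) := by
  haveI : Fact (Nat.Prime 2) := ⟨Nat.prime_two⟩
  set N := K ⊓ normalizer (P : Set G)
  obtain ⟨S₀⟩ := (inferInstance : Nonempty (Sylow 2 N))
  have hS₀ : Nat.card (S₀ : Subgroup N) = 8 := by
    rw [S₀.card_eq_multiplicity, hN]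
    rw [show (88 : ℕ) = 2 ^ 3 * 11 by norm_num, Nat.factorization_mul (by norm_num) (by norm_num),
      Finsupp.add_apply, Nat.Prime.factorization_pow Nat.prime_two, Finsupp.single_eq_same,
      Nat.factorization_eq_zero_of_not_dvd (by norm_num : ¬ 2 ∣ 11)]
    norm_num
  let S : Subgroup K := ((S₀ : Subgroup N).map N.subtype).subgroupOf K
  have hSN : (S₀ : Subgroup N).map N.subtype ≤ N := Subgroup.map_subtype_le _
  have hS : Nat.card S = 8 := by
    rw [Nat.card_congr (Subgroup.subgroupOfEquivOfLe (hSN.trans inf_le_left)).toEquiv, Subgroup.card_subtype, hS₀]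
  have hSP : IsPGroup 2 S := IsPGroup.of_card (n := 3) (by rw [hS]; norm_num)
  let S' : Sylow 2 K := hSP.toSylow (by
    have := S.index_mul_card
    rw [hS, hcardK] at this
    omega)
  let R : Subgroup K := S ⊓ (centralizer (P : Set G)).subgroupOf K
  let P' : Subgroup K := P.subgroupOf K
  have hP' : Nat.card P' = 11 := by rw [Nat.card_congr (Subgroup.subgroupOfEquivOfLe hPK).toEquiv, hP]
  have hRP : ∀ w ∈ R, P' ≤ centralizer {w} := by
    intro w hw y hy
    rw [Subgroup.mem_centralizer_singleton_iff]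
    exact Subtype.ext (hw.2 y.1 hy)
  -- the index of `R` in `S`
  have hR2 : R.relIndex S = 2 := by
    have h1 : Nat.card R ∣ 8 := hS ▸ Subgroup.card_dvd_of_le inf_le_left
    have h2 : Nat.card R ∣ 44 := by
      rw [← hC, ← Nat.card_congr (Subgroup.subgroupOfEquivOfLe (inf_le_left : K ⊓ centralizer (P : Set G) ≤ K)).toEquiv,
        Subgroup.inf_subgroupOf_left]
      exact Subgroup.card_dvd_of_le inf_le_right
    have h4 := Nat.dvd_gcd h1 h2
    norm_num at h4
    have h5 : R.relIndex S * Nat.card R = 8 := by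
      rw [← hS, ← Nat.card_congr (Subgroup.subgroupOfEquivOfLe (inf_le_left : R ≤ S)).toEquiv]
      exact (R.subgroupOf S).index_mul_card
    have h6 : R.relIndex S ≤ 2 := by
      have e1 : R.relIndex S = ((centralizer (P : Set G)).subgroupOf K).relIndex S := Subgroup.inf_relIndex_left _ _
      have hle : S ≤ (normalizer (P : Set G)).subgroupOf K := fun s hs => (hSN hs).2
      have e3 := Subgroup.relIndex_le_of_le_right (H := (centralizer (P : Set G)).subgroupOf K) hle
        Subgroup.index_ne_zero_of_finite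
      have e4 : ((centralizer (P : Set G)).subgroupOf K).relIndex ((normalizer (P : Set G)).subgroupOf K) * 44 = 88 := by
        have hcn : centralizer (P : Set G) ≤ normalizer (P : Set G) := Subgroup.centralizer_le_normalizer _
        have a1 : Nat.card ((centralizer (P : Set G)).subgroupOf K) = 44 := by
          rw [← Subgroup.inf_subgroupOf_left, Nat.card_congr (Subgroup.subgroupOfEquivOfLe inf_le_left).toEquiv, hC]
        have a2 : Nat.card ((normalizer (P : Set G)).subgroupOf K) = 88 := by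
          rw [← Subgroup.inf_subgroupOf_left, Nat.card_congr (Subgroup.subgroupOfEquivOfLe inf_le_left).toEquiv]
          exact hN
        have hle' : (centralizer (P : Set G)).subgroupOf K ≤ (normalizer (P : Set G)).subgroupOf K :=
          Subgroup.comap_mono hcn
        have a3 := (((centralizer (P : Set G)).subgroupOf K).subgroupOf ((normalizer (P : Set G)).subgroupOf K)).index_mul_card
        rw [Nat.card_congr (Subgroup.subgroupOfEquivOfLe hle').toEquiv, a1, a2] at a3
        exact a3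
      omega
    have h7 : Nat.card R ≤ 4 := Nat.le_of_dvd (by norm_num) h4
    rcases Nat.lt_or_ge (R.relIndex S) 2 with h | h
    · interval_cases hh : R.relIndex S <;> omega
    · omega
  have hbound : ∀ w : K, (∀ s ∈ S, s * w = w * s) → w ∈ R →
      88 ≤ Nat.card (centralizer ({w} : Set K)) := by
    intro w hwS hwR
    have h1 : 8 ∣ Nat.card (centralizer ({w} : Set K)) :=
      hS ▸ Subgroup.card_dvd_of_le fun s hs => Subgroup.mem_centralizer_singleton_iff.2 (hwS s hs)
    have h2 : 11 ∣ Nat.card (centralizer ({w} : Set K)) := hP' ▸ Subgroup.card_dvd_of_le (hRP w hwR)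
    exact Nat.le_of_dvd Nat.card_pos (Nat.Coprime.mul_dvd_of_dvd_of_dvd (by norm_num) h1 h2)
  have key : ∃ w : K, 88 ≤ Nat.card (centralizer ({w} : Set K)) ∧ ∃ g : K, g⁻¹ * ⟨u, huK⟩ * g = w := by
    have hu' : orderOf (⟨u, huK⟩ : K) = 2 := by rw [← Subgroup.orderOf_coe]; exact hu
    by_cases hcen : ∀ r ∈ R, ∀ s ∈ S, s * r = r * s
    · obtain ⟨g, hg⟩ := Small.thompson_transfer_sylow hno S' R inf_le_left hR2 hu'
      exact ⟨_, hbound _ (hcen _ hg) hg, g, rfl⟩
    · push Not at hcen
      obtain ⟨r, hr, s, hs, hrs⟩ := hcen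
      obtain ⟨x, hxS, hx2⟩ : ∃ x ∈ S, x * x ≠ 1 := by
        by_contra h
        push Not at h
        refine hrs ?_
        have e1 := h (s * r) (S.mul_mem hs hr.1)
        have e2 := h s hs
        have e3 := h r hr.1
        calc s * r = s * (s * r * (s * r)) * r := by rw [e1, mul_one]
          _ = (s * s) * r * s * (r * r) := by group
          _ = _ := by rw [e2, e3, one_mul, mul_one]
      haveI : (R.subgroupOf S).Normal := Subgroup.normal_of_index_eq_two hR2
      have hxx : x * x ∈ R := Subgroup.mul_self_mem_of_index_two hR2 (⟨x, hxS⟩ : S)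
      have hx4 : orderOf x = 4 := by
        have h8 : orderOf x ∣ 2 ^ 3 := by rw [show (2 : ℕ) ^ 3 = 8 from rfl, ← hS]; exact Subgroup.orderOf_dvd_natCard _ hxS
        obtain ⟨j, hj, hjx⟩ := (Nat.dvd_prime_pow Nat.prime_two).1 h8
        interval_cases j
        · rw [pow_zero, orderOf_eq_one_iff] at hjx; simp [hjx] at hx2
        · rw [pow_one, orderOf_eq_prime_iff, pow_two] at hjx; exact absurd hjx.1 hx2
        · simpa using hjx
        · exfalso
          have htop : Subgroup.zpowers x = S :=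
            Subgroup.eq_of_le_of_card_ge (Subgroup.zpowers_le.2 hxS) (by rw [Nat.card_zpowers, hjx, hS]; norm_num)
          have hr' : r ∈ S := hr.1
          rw [← htop] at hs hr'
          obtain ⟨i, rfl⟩ := hs
          obtain ⟨j, rfl⟩ := hr'
          exact hrs (by simp only [← zpow_add, add_comm])
      have hT : (Subgroup.zpowers x).relIndex S = 2 := by
        have h5 : (Subgroup.zpowers x).relIndex S * 4 = 8 := by
          rw [← hS, ← hx4, ← Nat.card_zpowers,
            ← Nat.card_congr (Subgroup.subgroupOfEquivOfLe (Subgroup.zpowers_le.2 hxS)).toEquiv]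
          exact ((Subgroup.zpowers x).subgroupOf S).index_mul_card
        omega
      obtain ⟨g, hg⟩ := Small.thompson_transfer_sylow hno S' (Subgroup.zpowers x) (Subgroup.zpowers_le.2 hxS) hT hu'
      have hw : g⁻¹ * ⟨u, huK⟩ * g = x * x := by
        have hwo : orderOf (g⁻¹ * ⟨u, huK⟩ * g) = 2 := by
          rw [← hu']
          have := (MulAut.conj g⁻¹).orderOf_eq (⟨u, huK⟩ : K)
          simpa using this
        obtain ⟨i, hi4, hi⟩ := exists_pow_of_mem_zpowers hg
        rw [hx4] at hi4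
        interval_cases i
        · rw [pow_zero] at hi; rw [← hi, orderOf_one] at hwo; omega
        · rw [pow_one] at hi; rw [← hi, hx4] at hwo; omega
        · rw [← hi, pow_two]
        · rw [← hi, orderOf_pow' _ (by norm_num), hx4] at hwo; norm_num at hwo
      refine ⟨x * x, hbound _ (fun s' hs' => ?_) hxx, g, hw⟩
      haveI : ((Subgroup.zpowers x).subgroupOf S).Normal := Subgroup.normal_of_index_eq_two hT
      have hsx : s' * x * s'⁻¹ ∈ Subgroup.zpowers x :=
        ‹((Subgroup.zpowers x).subgroupOf S).Normal›.conj_mem ⟨x, hxS⟩ (Subgroup.mem_zpowers x) ⟨s', hs'⟩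
      obtain ⟨i, hi4, hi⟩ := exists_pow_of_mem_zpowers hsx
      rw [hx4] at hi4
      have hso : orderOf (s' * x * s'⁻¹) = 4 := by
        rw [← hx4]
        exact (MulAut.conj s').orderOf_eq x
      have hsq : s' * (x * x) * s'⁻¹ = x * x := by
        have e : s' * (x * x) * s'⁻¹ = (s' * x * s'⁻¹) * (s' * x * s'⁻¹) := by group
        rw [e, ← hi]
        interval_cases i
        · rw [pow_zero] at hi; rw [← hi, orderOf_one] at hso; omega
        · rw [pow_one]
        · rw [← hi, orderOf_pow' _ (by norm_num), hx4] at hso; norm_num at hso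
        · rw [← pow_add, show 3 + 3 = 4 + 2 by norm_num, pow_add, ← hx4, pow_orderOf_eq_one, one_mul, pow_two]
      calc s' * (x * x) = s' * (x * x) * s'⁻¹ * s' := by group
        _ = _ := by rw [hsq]
  obtain ⟨w, hw88, g, hgw⟩ := key
  refine hw88.trans (Nat.card_le_card_of_injective
    (fun c => ⟨((g * c.1 * g⁻¹ : K) : G), (g * c.1 * g⁻¹ : K).2, ?_⟩) fun c c' h => ?_)
  · show ((g * c.1 * g⁻¹ : K) : G) ∈ centralizer ({u} : Set G)
    rw [Subgroup.mem_centralizer_singleton_iff]
    have h1 := Subgroup.mem_centralizer_singleton_iff.1 c.2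
    have h2 : (g * c.1 * g⁻¹) * (⟨u, huK⟩ : K) = (⟨u, huK⟩ : K) * (g * c.1 * g⁻¹) := by
      have hu2 : (⟨u, huK⟩ : K) = g * w * g⁻¹ := by rw [← hgw]; group
      rw [hu2]
      calc g * c.1 * g⁻¹ * (g * w * g⁻¹) = g * (c.1 * w) * g⁻¹ := by group
        _ = g * (w * c.1) * g⁻¹ := by rw [h1]
        _ = _ := by group
    exact congrArg Subtype.val h2
  · have h1 : g * c.1 * g⁻¹ = g * c'.1 * g⁻¹ :=
      Subtype.ext (congrArg (fun z : ↥(K ⊓ centralizer {u}) => (z : G)) h)
    exact Subtype.ext (mul_left_cancel (mul_right_cancel h1))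

theorem exists_isolated {p m a : ℕ} [Fact p.Prime] (hG : Nat.card G = 7920) (hm : p ^ a * m = 7920) (hpm : ¬ p ∣ m)
    (ha1 : 1 ≤ a) (hiso : ∀ s : ℕ, s.Prime → s ≠ p → ¬ ∃ g : G, orderOf g = p * s)
    (hab : a ≤ 2) :
    ∃ Q : Subgroup G, Nat.card Q = p ^ a ∧ centralizer (Q : Set G) = Q ∧
      (∀ x ∈ Q, orderOf x = p → centralizer {x} = Q) := by
  obtain ⟨Q⟩ := (inferInstance : Nonempty (Sylow p G))
  have hQ : Nat.card (Q : Subgroup G) = p ^ a := by
    rw [Q.card_eq_multiplicity, hG, ← hm, Nat.factorization_mul (pow_ne_zero _ (Fact.out : p.Prime).ne_zero)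
      (by rintro rfl; exact hpm (dvd_zero p)), Finsupp.add_apply, Nat.Prime.factorization_pow Fact.out,
      Finsupp.single_eq_same, Nat.factorization_eq_zero_of_not_dvd hpm, add_zero]
  haveI hcomm : IsMulCommutative (Q : Subgroup G) := by
    interval_cases a
    · haveI : IsCyclic (Q : Subgroup G) := isCyclic_of_prime_card (by rw [hQ, pow_one])
      exact ⟨⟨(IsCyclic.commGroup (α := (Q : Subgroup G))).mul_comm⟩⟩
    · exact ⟨⟨(IsPGroup.commGroupOfCardEqPrimeSq (p := p) hQ).mul_comm⟩⟩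
  have hmax : ¬ p ^ (a + 1) ∣ Nat.card G := by
    rw [hG, ← hm, pow_succ, Nat.mul_dvd_mul_iff_left (pow_pos (Fact.out : p.Prime).pos _)]
    exact hpm
  have hC : ∀ x ∈ (Q : Subgroup G), orderOf x = p → centralizer {x} = (Q : Subgroup G) := by
    intro x hx hxo
    refine centralizer_eq_of_isolated hQ hmax (fun y hy => ?_) hxo hiso
    rw [Subgroup.mem_centralizer_singleton_iff]
    exact congrArg Subtype.val (hcomm.is_comm.comm (⟨y, hy⟩ : (Q : Subgroup G)) ⟨x, hx⟩)
  refine ⟨Q, hQ, ?_, hC⟩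
  obtain ⟨⟨x, hx⟩, hxo⟩ := exists_prime_orderOf_dvd_card' (G := (Q : Subgroup G)) p (hQ ▸ dvd_pow_self p (by omega))
  rw [← Subgroup.orderOf_coe] at hxo
  refine le_antisymm ?_ (fun y hy z hz => congrArg Subtype.val (hcomm.is_comm.comm (⟨z, hz⟩ : (Q : Subgroup G)) ⟨y, hy⟩))
  intro y hy
  have h1 : x * y = y * x := hy x hx
  rw [← hC x hx hxo]
  exact Subgroup.mem_centralizer_singleton_iff.2 h1.symm

theorem card_of_index_sylow {p n : ℕ} [Fact p.Prime] (hG : Nat.card G = n) (Q : Sylow p G) :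
    Nat.card (Sylow p G) * Nat.card (normalizer ((Q : Subgroup G) : Set G)) = n ∧ Nat.card (Sylow p G) % p = 1 := by
  refine ⟨?_, ?_⟩
  · rw [Sylow.card_eq_index_normalizer Q]
    exact (Subgroup.index_mul_card _).trans hG
  · have := card_sylow_modEq_one p G
    rw [Nat.ModEq, Nat.mod_eq_of_lt (Fact.out : p.Prime).one_lt] at this
    exact this

end CfsgLib.GraphSimple
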