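import Mathlib
import Cfsg.Agent.Coprime.Action
import Cfsg.Agent.Small.ThompsonTransfer

set_option autoImplicit false

/-!
Tools for small orders: fixed points of `p`-groups on normalised subgroups, Burnside complements inside a normal
subgroup, Frattini counts, and the injection `g ↦ (gtg⁻¹, gtxg⁻¹)` attached to an inverted element.
-/

namespace CfsgLib.GraphSimple

open Subgroup

variable {G : Type*} [Group G] [Finite G]

theorem card_inf_centralizer_modEq {p : ℕ} [Fact p.Prime] {H Q : Subgroup G} (hH : IsPGroup p H)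
    (hnorm : H ≤ normalizer (Q : Set G)) :
    Nat.card Q % p = Nat.card ↥(Q ⊓ centralizer (H : Set G)) % p := by
  letI : MulAction H Q := MulAction.compHom Q ((Q.normalizerMonoidHom).comp (Subgroup.inclusion hnorm))
  have hs : ∀ (h : H) (q : Q), ((h • q : Q) : G) = h * q * (h : G)⁻¹ := fun h q => rfl
  have h1 := hH.card_modEq_card_fixedPoints Q
  refine h1.trans (congrArg (· % p) (Nat.card_congr ?_))
  exact
    { toFun := fun q => ⟨(q.1 : G), q.1.2, fun h hh => by
        have := congrArg (fun a : Q => (a : G)) (q.2 ⟨h, hh⟩)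
        simp only [hs] at this
        exact (mul_inv_eq_iff_eq_mul.1 this)⟩
      invFun := fun q => ⟨⟨q.1, q.2.1⟩, fun h => Subtype.ext (by
        rw [hs]
        exact mul_inv_eq_iff_eq_mul.2 (q.2.2 h.1 h.2))⟩
      left_inv := fun q => rfl
      right_inv := fun q => rfl }

theorem le_centralizer_of_mod {p : ℕ} [Fact p.Prime] {H Q : Subgroup G} (hH : IsPGroup p H)
    (hnorm : H ≤ normalizer (Q : Set G))
    (hd : ∀ d, d ∣ Nat.card Q → d % p = Nat.card Q % p → d = Nat.card Q) :
    Q ≤ centralizer (H : Set G) := by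
  have h := hd _ (Subgroup.card_dvd_of_le (inf_le_left (b := centralizer (H : Set G))))
    (card_inf_centralizer_modEq hH hnorm).symm
  exact inf_eq_left.1 (Subgroup.eq_of_le_of_card_ge inf_le_left (le_of_eq h.symm))

theorem exists_orderOf_mul {r s : ℕ} (hr : r.Prime) (hs : s.Prime) (hrs : r ≠ s) (H : Subgroup G)
    {x : G} (hx : orderOf x = r) (hH : H ≤ centralizer {x}) (hsH : s ∣ Nat.card H) :
    ∃ g : G, orderOf g = r * s := by
  haveI := Fact.mk hs
  obtain ⟨y, hy⟩ := exists_prime_orderOf_dvd_card' (G := H) s hsH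
  rw [← Subgroup.orderOf_coe] at hy
  have hc : Commute x (y : G) := Subgroup.mem_centralizer_singleton_iff.1 (hH y.2) |>.symm
  refine ⟨x * y, ?_⟩
  rw [hc.orderOf_mul_eq_mul_orderOf_of_coprime (by rw [hx, hy]; exact (Nat.coprime_primes hr hs).2 hrs), hx, hy]

omit [Finite G] in
/-- Frattini: `|G| |N ∩ K| = |N| |K|`. -/
theorem card_mul_card_inf {K N : Subgroup G} [K.Normal] (h : N ⊔ K = ⊤) :
    Nat.card G * Nat.card ↥(K ⊓ N) = Nat.card N * Nat.card K := by
  have h1 : K.index = K.relIndex N := by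
    rw [← Subgroup.relIndex_top_right, ← h, Subgroup.relIndex_sup_right]
  have h3 := K.index_mul_card
  rw [h1] at h3
  have h4 : K.relIndex N * Nat.card ↥(K ⊓ N) = Nat.card N := by
    rw [← Nat.card_congr (Subgroup.subgroupOfEquivOfLe (inf_le_right : K ⊓ N ≤ N)).toEquiv,
      Subgroup.inf_subgroupOf_right]
    exact (K.subgroupOf N).index_mul_card
  rw [← h3, ← h4]
  ring

/-- Burnside's complement inside a normal subgroup, as a normal subgroup of `G`. -/
theorem exists_normal_complement {p a : ℕ} [Fact p.Prime] {K H : Subgroup G} [K.Normal] (hle : H ≤ K)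
    (hcard : Nat.card H = p ^ a) (hp : ¬ p ∣ Nat.card K / Nat.card H)
    (hN : normalizer (H : Set G) ⊓ K ≤ centralizer (H : Set G)) :
    ∃ M : Subgroup G, M.Normal ∧ M ≤ K ∧ Nat.card M * Nat.card H = Nat.card K := by
  have hdvd : Nat.card H ∣ Nat.card K := Subgroup.card_dvd_of_le hle
  have hHK : Nat.card (H.subgroupOf K) = Nat.card H := Nat.card_congr (Subgroup.subgroupOfEquivOfLe hle).toEquiv
  have hP : IsPGroup p (H.subgroupOf K) := IsPGroup.of_card (hHK.trans hcard)
  have hnd : ¬ p ∣ (H.subgroupOf K).index := by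
    have h1 := (H.subgroupOf K).index_mul_card
    rw [hHK] at h1
    rwa [← h1, Nat.mul_div_cancel _ Nat.card_pos] at hp
  let P : Sylow p K := hP.toSylow hnd
  have hNC : normalizer ((P : Subgroup K) : Set K) ≤ centralizer ((P : Subgroup K) : Set K) := by
    intro k hk y hy
    have hk' : (k : G) ∈ normalizer (H : Set G) := by
      rw [Subgroup.mem_normalizer_iff] at hk ⊢
      intro h
      constructor
      · intro hh
        exact (hk ⟨h, hle hh⟩).1 hh
      · intro hh
        have h2 : h ∈ K := by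
          have := ‹K.Normal›.conj_mem _ (hle hh) (k : G)⁻¹
          simpa [mul_assoc] using this
        exact (hk ⟨h, h2⟩).2 hh
    exact Subtype.ext (hN ⟨hk', k.2⟩ y.1 hy)
  let M := (MonoidHom.transferSylow P hNC).ker
  have hcomp := MonoidHom.ker_transferSylow_isComplement' P hNC
  have hM : Nat.card M * Nat.card H = Nat.card K := by
    rw [← hHK]; exact hcomp.card_mul
  have hcop : Nat.Coprime (Nat.card M) (Nat.card H) := by
    rw [hcard]
    exact ((Fact.out : p.Prime).coprime_iff_not_dvd.2 (MonoidHom.not_dvd_card_ker_transferSylow P hNC)).symm.pow_right a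
  have hmem : ∀ x : K, x ∈ M ↔ x ^ Nat.card M = 1 := by
    intro x
    constructor
    · intro hx
      have := pow_card_eq_one' (x := (⟨x, hx⟩ : M))
      exact congrArg Subtype.val this
    · intro hx
      rw [← QuotientGroup.eq_one_iff, ← pow_one (x : K ⧸ M), ← hcop.gcd_eq_one]
      refine pow_gcd_eq_one.2 ⟨by rw [← QuotientGroup.mk_pow, hx]; rfl, ?_⟩
      have h1 : M.index = Nat.card H := by
        have h2 := M.index_mul_card
        rw [← hM, mul_comm] at h2
        exact Nat.eq_of_mul_eq_mul_left Nat.card_pos h2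
      rw [← h1, Subgroup.index_eq_card]
      exact pow_card_eq_one'
  refine ⟨M.map K.subtype, ⟨fun x hx g => ?_⟩, Subgroup.map_subtype_le _, ?_⟩
  · obtain ⟨y, hy, rfl⟩ := hx
    refine ⟨⟨g * y * g⁻¹, ‹K.Normal›.conj_mem _ y.2 g⟩, (hmem _).2 (Subtype.ext ?_), rfl⟩
    have h1 := congrArg (fun z : K => (z : G)) ((hmem y).1 hy)
    simp only [SubmonoidClass.coe_pow, OneMemClass.coe_one] at h1 ⊢
    rw [conj_pow, h1, mul_one, mul_inv_cancel]
  · rw [Subgroup.card_subtype]
    exact hM

omit [Finite G] in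
theorem inverts_of_fpf {Q : Subgroup G} [Finite Q] {t : G} (ht : t * t = 1)
    (hn : t ∈ normalizer (Q : Set G)) (hfp : ∀ y ∈ Q, t * y = y * t → y = 1) {x : G} (hx : x ∈ Q) :
    t * x * t = x⁻¹ := by
  have htinv : t⁻¹ = t := inv_eq_of_mul_eq_one_right ht
  have hconj : ∀ y ∈ Q, t * y * t ∈ Q := fun y hy => by
    have := (Subgroup.mem_normalizer_iff.1 hn y).1 hy
    rwa [htinv] at this
  let f : Q → Q := fun y => ⟨y.1⁻¹ * (t * y.1 * t), Q.mul_mem (Q.inv_mem y.2) (hconj _ y.2)⟩
  have hf : Function.Injective f := by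
    intro a b h
    have h1 : a.1⁻¹ * (t * a.1 * t) = b.1⁻¹ * (t * b.1 * t) := congrArg Subtype.val h
    have h2 : b.1 * a.1⁻¹ = t * (b.1 * a.1⁻¹) * t := by
      calc b.1 * a.1⁻¹ = b.1 * (a.1⁻¹ * (t * a.1 * t)) * (t * a.1 * t)⁻¹ := by group
        _ = b.1 * (b.1⁻¹ * (t * b.1 * t)) * (t * a.1 * t)⁻¹ := by rw [h1]
        _ = _ := by
          rw [mul_inv_cancel_left, mul_inv_rev, mul_inv_rev, htinv]
          simp only [mul_assoc]
          rw [← mul_assoc t t, ht, one_mul]
    have h3 : t * (b.1 * a.1⁻¹) = b.1 * a.1⁻¹ * t := by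
      calc t * (b.1 * a.1⁻¹) = t * (b.1 * a.1⁻¹) * (t * t) := by rw [ht, mul_one]
        _ = t * (b.1 * a.1⁻¹) * t * t := by rw [mul_assoc (t * _)]
        _ = _ := by rw [← h2]
    exact Subtype.ext (mul_inv_eq_one.1 (hfp _ (Q.mul_mem b.2 (Q.inv_mem a.2)) h3)).symm
  obtain ⟨⟨y, hy⟩, hy'⟩ := (Finite.injective_iff_surjective.1 hf) ⟨x, hx⟩
  have h1 : y⁻¹ * (t * y * t) = x := congrArg Subtype.val hy'
  rw [← h1]
  calc t * (y⁻¹ * (t * y * t)) * t = t * y⁻¹ * t * y * (t * t) := by group
    _ = _ := by rw [ht, mul_one, mul_inv_rev, inv_inv, mul_inv_rev, mul_inv_rev, htinv]; group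

/-- If `t` inverts `x` of odd order and nothing but `1` commutes with both, then `|G| ≤ |t^G|²`. -/
theorem card_le_index_sq {t x : G} (ht : t * t = 1) (hinv : t * x * t = x⁻¹) (hodd : Odd (orderOf x))
    (hc : ∀ g, g * t = t * g → g * x = x * g → g = 1) :
    Nat.card G ≤ (centralizer {t}).index * (centralizer {t}).index := by
  obtain ⟨k, hk⟩ := hodd
  set y := x ^ (k + 1) with hy
  have hy2 : y * y = x := by
    rw [hy, ← pow_add, show k + 1 + (k + 1) = orderOf x + 1 by omega, pow_succ, pow_orderOf_eq_one, one_mul]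
  have hty : t * y * t = y⁻¹ := by
    have htinv : t⁻¹ = t := inv_eq_of_mul_eq_one_right ht
    have := conj_pow (a := t) (b := x) (i := k + 1)
    rw [htinv, hinv] at this
    rw [hy, ← this, inv_pow]
  have hu : t * x = y⁻¹ * t * y := by
    calc t * x = t * y * (t * t) * y := by rw [ht, mul_one, mul_assoc, hy2]
      _ = t * y * t * t * y := by group
      _ = _ := by rw [hty]
  let C : Set G := Set.range fun g : G => g * t * g⁻¹
  have hC : Nat.card C ≤ (centralizer {t}).index := by
    rw [Subgroup.index_eq_card]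
    refine Nat.card_le_card_of_surjective (fun c => ⟨Quotient.out c * t * (Quotient.out c)⁻¹, _, rfl⟩) ?_
    rintro ⟨_, g, rfl⟩
    refine ⟨QuotientGroup.mk g, Subtype.ext ?_⟩
    obtain ⟨h, hh⟩ := QuotientGroup.mk_out_eq_mul (centralizer ({t} : Set G)) g
    show Quotient.out (QuotientGroup.mk g) * t * _ = g * t * g⁻¹
    rw [hh, mul_inv_rev]
    have h1 : (h : G) * t = t * h := Subgroup.mem_centralizer_singleton_iff.1 h.2
    calc g * h * t * ((h : G)⁻¹ * g⁻¹) = g * (h * t) * (h : G)⁻¹ * g⁻¹ := by group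
      _ = g * (t * h) * (h : G)⁻¹ * g⁻¹ := by rw [h1]
      _ = _ := by group
  refine le_trans ?_ (Nat.mul_le_mul hC hC)
  rw [← Nat.card_prod]
  refine Nat.card_le_card_of_injective (fun g : G => ((⟨g * t * g⁻¹, g, rfl⟩ : C),
    (⟨g * (t * x) * g⁻¹, g * y⁻¹, by rw [hu]; group⟩ : C))) ?_
  intro g g' h
  obtain ⟨h1, h2⟩ := Prod.mk.injEq .. ▸ h
  replace h1 : g * t * g⁻¹ = g' * t * g'⁻¹ := congrArg Subtype.val h1
  replace h2 : g * (t * x) * g⁻¹ = g' * (t * x) * g'⁻¹ := congrArg Subtype.val h2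
  have e1 : g'⁻¹ * g * t = t * (g'⁻¹ * g) := by
    calc g'⁻¹ * g * t = g'⁻¹ * (g * t * g⁻¹) * g := by group
      _ = g'⁻¹ * (g' * t * g'⁻¹) * g := by rw [h1]
      _ = _ := by group
  have e2 : g'⁻¹ * g * (t * x) = t * x * (g'⁻¹ * g) := by
    calc g'⁻¹ * g * (t * x) = g'⁻¹ * (g * (t * x) * g⁻¹) * g := by group
      _ = g'⁻¹ * (g' * (t * x) * g'⁻¹) * g := by rw [h2]
      _ = _ := by group
  rw [← mul_assoc (g'⁻¹ * g) t x, e1, mul_assoc, mul_assoc t x, mul_right_inj] at e2
  exact (inv_mul_eq_one.1 (hc _ e1 e2)).symm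

omit [Finite G] in
/-- Orbit bound for the centraliser of an element of a normal subgroup. -/
theorem index_centralizer_lt [Finite G] {K : Subgroup G} [K.Normal] {z : G} (hz : z ∈ K) (hz1 : z ≠ 1) :
    (centralizer {z}).index < Nat.card K := by
  haveI : Fintype K := Fintype.ofFinite K
  classical
  let f : G ⧸ centralizer ({z} : Set G) → K := fun c =>
    ⟨Quotient.out c * z * (Quotient.out c)⁻¹, ‹K.Normal›.conj_mem z hz _⟩
  have hf : Function.Injective f := by
    intro c c' h
    have h1 : Quotient.out c * z * (Quotient.out c)⁻¹ = Quotient.out c' * z * (Quotient.out c')⁻¹ :=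
      congrArg Subtype.val h
    rw [← Quotient.out_eq c, ← Quotient.out_eq c']
    refine QuotientGroup.eq.2 (Subgroup.mem_centralizer_singleton_iff.2 ?_)
    calc (Quotient.out c)⁻¹ * Quotient.out c' * z
        = (Quotient.out c)⁻¹ * (Quotient.out c' * z * (Quotient.out c')⁻¹) * Quotient.out c' := by group
      _ = (Quotient.out c)⁻¹ * (Quotient.out c * z * (Quotient.out c)⁻¹) * Quotient.out c' := by rw [← h1]
      _ = _ := by group
  haveI : Fintype (G ⧸ centralizer ({z} : Set G)) := Fintype.ofFinite _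
  rw [Subgroup.index_eq_card, Nat.card_eq_fintype_card, Nat.card_eq_fintype_card]
  refine Fintype.card_lt_of_injective_of_notMem f hf (b := 1) ?_
  rintro ⟨c, hc⟩
  have h1 : Quotient.out c * z * (Quotient.out c)⁻¹ = 1 := congrArg Subtype.val hc
  exact hz1 (by simpa using h1)

end CfsgLib.GraphSimple
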